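import Groth.Agent.S0617
import Groth.Agent.QFDLib.FibreInv
import Mathlib.RingTheory.HopfAlgebra.TensorProduct
import Mathlib.RingTheory.Bialgebra.TensorProduct
import Mathlib.RingTheory.Flat.Equalizer
import Mathlib.RingTheory.Flat.Localization
import Mathlib.RingTheory.LocalRing.Module
import Mathlib.RingTheory.Spectrum.Prime.FreeLocus
import Mathlib.LinearAlgebra.TensorProduct.Quotient
import Mathlib.RingTheory.LocalRing.ResidueField.Ideal

/-!
Faithful flatness of homomorphisms of finite flat Hopf algebras from the torsor isomorphism and orders.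
-/

namespace Groth.Agent.BTLib.FibreFlat

universe u

open TensorProduct

/-- A finite module over a local ring, flat over the base, flat on the closed fibre, is flat. -/
theorem flat_of_fibre {A L : Type u} [CommRing A] [CommRing L] [IsLocalRing L] [IsNoetherianRing L]
    [Algebra A L] {N : Type u} [AddCommGroup N] [Module L N] [Module A N] [IsScalarTower A L N]
    [Module.Finite L N] [Module.Flat A N] (p : Ideal A) (hp : p.map (algebraMap A L) ≠ ⊤)
    (hflat : Module.Flat (L ⧸ p.map (algebraMap A L)) ((L ⧸ p.map (algebraMap A L)) ⊗[L] N)) :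
    Module.Flat L N := by
  classical
  set J := p.map (algebraMap A L) with hJ
  have : Nontrivial (L ⧸ J) := Ideal.Quotient.nontrivial_iff.2 hp
  have : IsLocalRing (L ⧸ J) := IsLocalRing.of_surjective' (Ideal.Quotient.mk J) Ideal.Quotient.mk_surjective
  have : Module.Free (L ⧸ J) ((L ⧸ J) ⊗[L] N) := Module.free_of_flat_of_isLocalRing
  let m := Module.finrank (L ⧸ J) ((L ⧸ J) ⊗[L] N)
  let e₁ : ((L ⧸ J) ⊗[L] N) ≃ₗ[L ⧸ J] (Fin m → L ⧸ J) := (Module.finBasis (L ⧸ J) ((L ⧸ J) ⊗[L] N)).equivFun
  let e : (N ⧸ J • (⊤ : Submodule L N)) ≃ₗ[L] (Fin m → L ⧸ J) :=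
    (TensorProduct.quotTensorEquivQuotSMul N J).symm ≪≫ₗ e₁.restrictScalars L
  have hjac : J ≤ (⊥ : Ideal L).jacobson := by
    rw [IsLocalRing.jacobson_eq_maximalIdeal _ bot_ne_top]
    exact IsLocalRing.le_maximalIdeal hp
  choose n hn using fun i => Submodule.Quotient.mk_surjective _ (e.symm (Pi.single i 1))
  let g : (Fin m → L) →ₗ[L] N := Fintype.linearCombination L n
  have heg : ∀ b : Fin m → L, e (Submodule.Quotient.mk (g b)) = fun i => Ideal.Quotient.mk J (b i) := by
    intro b
    simp only [g, Fintype.linearCombination_apply]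
    rw [← Submodule.mkQ_apply, map_sum]
    simp only [map_smul, Submodule.mkQ_apply, hn, map_sum, LinearEquiv.apply_symm_apply]
    funext i
    simp [Finset.sum_apply, Pi.single_apply, Algebra.smul_def]
  have hsurj : Function.Surjective g := by
    rw [← LinearMap.range_eq_top, eq_top_iff]
    refine Submodule.le_of_le_smul_of_le_jacobson_bot (Module.Finite.fg_top) hjac fun x _ => ?_
    choose b hb using fun i => Ideal.Quotient.mk_surjective (e (Submodule.Quotient.mk x) i)
    have hb' : e (Submodule.Quotient.mk (g b)) = e (Submodule.Quotient.mk x) := by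
      rw [heg]; exact funext hb
    rw [e.injective.eq_iff, Submodule.Quotient.eq] at hb'
    rw [show x = g b - (g b - x) by abel]
    exact sub_mem (Submodule.mem_sup_left (LinearMap.mem_range_self g b)) (Submodule.mem_sup_right hb')
  let K : Submodule L (Fin m → L) := LinearMap.ker g
  have hK : K = ⊥ := by
    refine Submodule.eq_bot_of_le_smul_of_le_jacobson_bot J K (IsNoetherian.noetherian K) ?_ hjac
    intro b hb
    have hbJ : b ∈ J • (⊤ : Submodule L (Fin m → L)) := by
      rw [pi_eq_sum_univ' b]
      refine sum_mem fun i _ => Submodule.smul_mem_smul ?_ Submodule.mem_top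
      rw [← Ideal.Quotient.eq_zero_iff_mem]
      have := congrFun (heg b) i
      rw [LinearMap.mem_ker.1 hb, Submodule.Quotient.mk_zero, map_zero] at this
      exact this.symm
    have hbp : b ∈ p • (⊤ : Submodule A (Fin m → L)) := by
      have hle : J • (⊤ : Submodule L (Fin m → L)) ≤
          Submodule.span L ((p • (⊤ : Submodule A (Fin m → L)) : Submodule A (Fin m → L)) : Set (Fin m → L)) := by
        rw [Submodule.smul_le]
        intro c hc y hy
        clear hy
        induction hc using Submodule.span_induction generalizing y with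
        | mem c hc =>
          obtain ⟨a, ha, rfl⟩ := hc
          rw [algebraMap_smul]
          exact Submodule.subset_span (Submodule.smul_mem_smul ha Submodule.mem_top)
        | zero => simp
        | add c d _ _ hc hd => rw [add_smul]; exact add_mem (hc _) (hd _)
        | smul r c _ hc => rw [smul_eq_mul, mul_smul]; exact Submodule.smul_mem _ r (hc _)
      have hspan : ∀ y ∈ Submodule.span L ((p • (⊤ : Submodule A (Fin m → L)) : Submodule A (Fin m → L)) : Set (Fin m → L)),
          y ∈ p • (⊤ : Submodule A (Fin m → L)) := by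
        intro y hy
        induction hy using Submodule.span_induction with
        | mem y hy => exact hy
        | zero => exact zero_mem _
        | add y z _ _ hy hz => exact add_mem hy hz
        | smul r y _ hy =>
          refine Submodule.smul_induction_on hy (fun a ha z _ => ?_) (fun u v hu hv => ?_)
          · rw [smul_comm]; exact Submodule.smul_mem_smul ha Submodule.mem_top
          · rw [smul_add]; exact add_mem hu hv
      exact hspan _ (hle hbJ)
    let i : K →ₗ[A] (Fin m → L) := K.subtype.restrictScalars A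
    have hinj := LinearMap.lTensor_injective_of_exact_of_flat (g.restrictScalars A) hsurj i
      K.subtype_injective (fun x => by
        constructor
        · intro hx; exact ⟨⟨x, hx⟩, rfl⟩
        · rintro ⟨y, rfl⟩; exact y.2) (A ⧸ p)
    have h1 : (1 : A ⧸ p) ⊗ₜ[A] (⟨b, hb⟩ : K) = 0 := by
      refine hinj ?_
      rw [LinearMap.lTensor_tmul, map_zero,
        ← (TensorProduct.quotTensorEquivQuotSMul (Fin m → L) p).map_eq_zero_iff,
        ← map_one (Ideal.Quotient.mk p), TensorProduct.quotTensorEquivQuotSMul_mk_tmul, one_smul,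
        Submodule.Quotient.mk_eq_zero]
      exact hbp
    rw [← (TensorProduct.quotTensorEquivQuotSMul K p).map_eq_zero_iff, ← map_one (Ideal.Quotient.mk p),
      TensorProduct.quotTensorEquivQuotSMul_mk_tmul, one_smul, Submodule.Quotient.mk_eq_zero] at h1
    have h2 : ∀ z ∈ p • (⊤ : Submodule A K), (z : Fin m → L) ∈ J • K := by
      intro z hz
      refine Submodule.smul_induction_on hz (fun a ha y _ => ?_) (fun u v hu hv => add_mem hu hv)
      show ((a • y : K) : Fin m → L) ∈ _
      rw [Submodule.coe_smul_of_tower, ← algebraMap_smul L a (y : Fin m → L)]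
      exact Submodule.smul_mem_smul (Ideal.mem_map_of_mem _ ha) y.2
    exact h2 _ h1
  exact Module.Flat.of_linearEquiv (LinearEquiv.ofBijective g ⟨LinearMap.ker_eq_bot.1 hK, hsurj⟩).symm

/-- A bialgebra map of finite Hopf algebras over a field is faithfully flat, once its fibre ranks and orders match. -/
theorem faithfullyFlat_of_field {K A C : Type u} [Field K] [CommRing A] [CommRing C] [HopfAlgebra K A]
    [HopfAlgebra K C] [Module.Finite K A] [Module.Finite K C] (f : C →ₐc[K] A) (n : ℕ) (hn : 0 < n)
    (hdim : Module.finrank K A = n * Module.finrank K C)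
    (hrank : letI := (f : C →+* A).toAlgebra
      ∀ P : PrimeSpectrum A, Module.finrank P.asIdeal.ResidueField (P.asIdeal.ResidueField ⊗[C] A) = n) :
    letI := (f : C →+* A).toAlgebra
    Module.FaithfullyFlat C A := by
  classical
  letI := (f : C →+* A).toAlgebra
  let C' := (f : C →ₐ[K] A).range
  let g : C →ₐ[K] C' := (f : C →ₐ[K] A).rangeRestrict
  have hg : Function.Surjective g := AlgHom.rangeRestrict_surjective _
  letI : Algebra C C' := g.toRingHom.toAlgebra
  haveI : IsScalarTower C C' A := IsScalarTower.of_algebraMap_eq fun _ => rfl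
  haveI : IsScalarTower K C C' := IsScalarTower.of_algebraMap_eq fun r => (g.commutes r).symm
  have hff : Module.FaithfullyFlat C' A :=
    RingHom.faithfullyFlat_algebraMap_iff.1 (Groth.Agent.S0617.result f)
  have : Module.Finite K C' := Module.Finite.of_surjective g.toLinearMap hg
  have : IsArtinianRing C' := isArtinian_of_tower K inferInstance
  have : Module.Finite C' A := Module.Finite.of_restrictScalars_finite K C' A
  have hconst : ∀ P : MaximalSpectrum C', Module.finrank (C' ⧸ P.1) ((C' ⧸ P.1) ⊗[C'] A) = n := by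
    intro P
    letI := Ideal.Quotient.field P.1
    obtain ⟨Q, hQ⟩ := PrimeSpectrum.comap_surjective_of_faithfullyFlat (A := C') (B := A) ⟨P.1, P.2.isPrime⟩
    let L := Q.asIdeal.ResidueField
    haveI : IsScalarTower C C' L := IsScalarTower.of_algebraMap_eq fun c => by
      rw [IsScalarTower.algebraMap_apply C A L, IsScalarTower.algebraMap_apply C' A L, ← IsScalarTower.algebraMap_apply C C' A]
    let φ : C' ⧸ P.1 →+* L := Ideal.Quotient.lift P.1 (algebraMap C' L) fun a ha => by
      rw [IsScalarTower.algebraMap_apply C' A L, Ideal.algebraMap_residueField_eq_zero]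
      have := congrArg PrimeSpectrum.asIdeal hQ
      exact this.symm.le ha
    letI := φ.toAlgebra
    haveI : IsScalarTower C' (C' ⧸ P.1) L := IsScalarTower.of_algebraMap_eq fun _ => rfl
    have e : L ⊗[C' ⧸ P.1] ((C' ⧸ P.1) ⊗[C'] A) ≃ₗ[L] L ⊗[C'] A :=
      TensorProduct.AlgebraTensorModule.cancelBaseChange C' (C' ⧸ P.1) L L A
    haveI : Module.Free (C' ⧸ P.1) ((C' ⧸ P.1) ⊗[C'] A) := Module.Free.of_divisionRing _ _
    rw [← Module.finrank_baseChange (R := L), e.finrank_eq]
    let e₀ : L ⊗[C] A →ₗ[L] L ⊗[C'] A :=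
      TensorProduct.AlgebraTensorModule.lift
        { toFun := fun l =>
            { toFun := fun a => l ⊗ₜ[C'] a
              map_add' := fun a b => TensorProduct.tmul_add l a b
              map_smul' := fun c a => by
                rw [RingHom.id_apply, ← algebraMap_smul C' c a, ← TensorProduct.smul_tmul, algebraMap_smul]
                rfl }
          map_add' := fun l l' => LinearMap.ext fun a => TensorProduct.add_tmul l l' a
          map_smul' := fun r l => LinearMap.ext fun a => rfl }
    have hc : ∀ (c : C') (l : L) (a : A), (c • l) ⊗ₜ[C] a = l ⊗ₜ[C] (c • a) := by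
      intro c l a
      obtain ⟨c, rfl⟩ := hg c
      have e1 : g c • l = c • l := algebraMap_smul C' c l
      have e2 : g c • a = c • a := algebraMap_smul C' c a
      rw [e1, e2, TensorProduct.smul_tmul]
    let back : L ⊗[C'] A →+ L ⊗[C] A :=
      TensorProduct.liftAddHom
        { toFun := fun l => AddMonoidHom.mk' (fun a => l ⊗ₜ[C] a) (TensorProduct.tmul_add l)
          map_zero' := AddMonoidHom.ext fun a => TensorProduct.zero_tmul _ a
          map_add' := fun l l' => AddMonoidHom.ext fun a => TensorProduct.add_tmul l l' a }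
        hc
    have hbij : Function.Bijective e₀ := by
      refine ⟨Function.LeftInverse.injective (g := back) fun z => ?_, fun z => ?_⟩
      · induction z using TensorProduct.induction_on with
        | zero => simp
        | tmul l a => rfl
        | add x y hx hy => rw [map_add, map_add, hx, hy]
      · refine ⟨back z, ?_⟩
        induction z using TensorProduct.induction_on with
        | zero => simp
        | tmul l a => rfl
        | add x y hx hy => rw [map_add, map_add, hx, hy]
    rw [← (LinearEquiv.ofBijective e₀ hbij).finrank_eq]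
    exact hrank Q
  obtain ⟨b⟩ := Module.nonempty_basis_of_flat_of_finrank_eq C' A n hconst
  have h1 : Module.finrank K A = n * Module.finrank K C' := by
    rw [(b.equivFun.restrictScalars K).finrank_eq, Module.finrank_pi_fintype, Finset.sum_const,
      Finset.card_univ, Fintype.card_fin, smul_eq_mul]
  have h2 : Module.finrank K C = Module.finrank K C' := Nat.eq_of_mul_eq_mul_left hn (hdim.symm.trans h1)
  have hginj : Function.Injective g.toLinearMap :=
    (LinearMap.injective_iff_surjective_of_finrank_eq_finrank h2).2 hg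
  have : Module.FaithfullyFlat C C' :=
    RingHom.faithfullyFlat_algebraMap_iff.1 (RingHom.FaithfullyFlat.of_bijective ⟨hginj, hg⟩)
  exact Module.FaithfullyFlat.trans C C' A

/-- The relative statement: a bialgebra map of finite projective Hopf algebras is finite locally free of rank `n`. -/
theorem faithfullyFlat_of_torsor {R A C B : Type u} [CommRing R] [IsNoetherianRing R] [CommRing A] [CommRing C]
    [CommRing B] [HopfAlgebra R A] [HopfAlgebra R C] [Algebra R B] [Module.Finite R A] [Module.Projective R A]
    [Module.Finite R C] [Module.Projective R C] [Module.Finite R B] [Module.Projective R B]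
    (f : C →ₐc[R] A) (n : ℕ) (hn : 0 < n)
    (hA : ∀ p : PrimeSpectrum R, Module.rankAtStalk (R := R) A p = n * Module.rankAtStalk (R := R) C p)
    (hB : ∀ p : PrimeSpectrum R, Module.rankAtStalk (R := R) B p = n)
    (htor : letI := (f : C →+* A).toAlgebra; Nonempty (A ⊗[C] A ≃ₗ[A] A ⊗[R] B)) :
    letI := (f : C →+* A).toAlgebra
    Module.FaithfullyFlat C A ∧ ∀ Q : PrimeSpectrum C, Module.rankAtStalk (R := C) A Q = n := by
  classical
  letI := (f : C →+* A).toAlgebra
  haveI : IsScalarTower R C A := IsScalarTower.of_algebraMap_eq fun r => ((f : C →ₐ[R] A).commutes r).symm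
  obtain ⟨τ⟩ := htor
  have : IsNoetherianRing C := IsNoetherianRing.of_finite R C
  have : Module.Finite C A := Module.Finite.of_restrictScalars_finite R C A
  -- the rank of `A` over `C` at a point of `A`
  have hrankA : ∀ (L : Type u) [Field L] [Algebra A L] [Algebra C L] [IsScalarTower C A L],
      Module.finrank L (L ⊗[C] A) = n := by
    intro L _ _ _ _
    letI : Algebra R L := ((algebraMap A L).comp (algebraMap R A)).toAlgebra
    haveI : IsScalarTower R A L := IsScalarTower.of_algebraMap_eq fun _ => rfl
    let P : Ideal R := RingHom.ker (algebraMap R L)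
    haveI : P.IsPrime := RingHom.ker_isPrime _
    let φ : P.ResidueField →+* L := Ideal.ResidueField.lift P (algebraMap R L) le_rfl
      (fun a ha => isUnit_iff_ne_zero.2 ha)
    letI := φ.toAlgebra
    haveI : IsScalarTower R P.ResidueField L := IsScalarTower.of_algebraMap_eq fun r =>
      (Ideal.ResidueField.lift_algebraMap P _ le_rfl _ r).symm
    calc Module.finrank L (L ⊗[C] A) = Module.finrank L (L ⊗[A] (A ⊗[C] A)) :=
          (TensorProduct.AlgebraTensorModule.cancelBaseChange C A L L A).finrank_eq.symm
      _ = Module.finrank L (L ⊗[A] (A ⊗[R] B)) :=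
          (TensorProduct.AlgebraTensorModule.congr (LinearEquiv.refl L L) τ).finrank_eq
      _ = Module.finrank L (L ⊗[R] B) :=
          (TensorProduct.AlgebraTensorModule.cancelBaseChange R A L L B).finrank_eq
      _ = Module.finrank L (L ⊗[P.ResidueField] (P.Fiber B)) :=
          (TensorProduct.AlgebraTensorModule.cancelBaseChange R P.ResidueField L L B).finrank_eq.symm
      _ = Module.finrank P.ResidueField (P.Fiber B) := Module.finrank_baseChange
      _ = n := by rw [Ideal.finrank_fiber_eq_rankAtStalk, hB]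
  -- the fibres
  have hfib : ∀ (P : Ideal R) [P.IsPrime],
      letI := (Algebra.TensorProduct.map (AlgHom.id R P.ResidueField) (f : C →ₐ[R] A)).toRingHom.toAlgebra
      Module.FaithfullyFlat (P.ResidueField ⊗[R] C) (P.ResidueField ⊗[R] A) := by
    intro P _
    let κ := P.ResidueField
    let fκ : κ ⊗[R] C →ₐc[κ] κ ⊗[R] A := Bialgebra.TensorProduct.map (BialgHom.id κ κ) f
    have hfκ : (Algebra.TensorProduct.map (AlgHom.id R κ) (f : C →ₐ[R] A)).toRingHom =
        (fκ : κ ⊗[R] C →+* κ ⊗[R] A) := rfl
    rw [hfκ]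
    refine faithfullyFlat_of_field fκ n hn ?_ ?_
    · rw [← Ideal.finrank_fiber_eq_rankAtStalk (M := A) P |>.trans (hA ⟨P, inferInstance⟩ |>.trans
        (congrArg (n * ·) (Ideal.finrank_fiber_eq_rankAtStalk (M := C) P).symm))]
    · letI := (fκ : κ ⊗[R] C →+* κ ⊗[R] A).toAlgebra
      letI : Algebra C (κ ⊗[R] C) := Algebra.TensorProduct.rightAlgebra
      letI : Algebra A (κ ⊗[R] A) := Algebra.TensorProduct.rightAlgebra
      letI : Algebra C (κ ⊗[R] A) :=
        ((algebraMap (κ ⊗[R] C) (κ ⊗[R] A)).comp (algebraMap C (κ ⊗[R] C))).toAlgebra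
      haveI : IsScalarTower C (κ ⊗[R] C) (κ ⊗[R] A) := IsScalarTower.of_algebraMap_eq fun _ => rfl
      haveI : IsScalarTower C A (κ ⊗[R] A) := IsScalarTower.of_algebraMap_eq fun c => by
        show fκ ((1 : κ) ⊗ₜ[R] c) = (1 : κ) ⊗ₜ[R] f c
        rfl
      haveI : IsScalarTower κ (κ ⊗[R] C) (κ ⊗[R] A) := IsScalarTower.of_algebraMap_eq fun a => (AlgHomClass.commutes fκ a).symm
      haveI : IsScalarTower R (κ ⊗[R] C) (κ ⊗[R] A) := IsScalarTower.of_algebraMap_eq fun r => by
        rw [IsScalarTower.algebraMap_apply R κ (κ ⊗[R] A), IsScalarTower.algebraMap_apply R κ (κ ⊗[R] C),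
          ← IsScalarTower.algebraMap_apply κ (κ ⊗[R] C) (κ ⊗[R] A)]
      haveI : Algebra.IsPushout R κ C (κ ⊗[R] C) := inferInstance
      haveI hpA : Algebra.IsPushout R κ A (κ ⊗[R] A) := inferInstance
      haveI : Algebra.IsPushout R C κ (κ ⊗[R] C) := Algebra.IsPushout.symm inferInstance
      have hpush : Algebra.IsPushout C A (κ ⊗[R] C) (κ ⊗[R] A) :=
        (Algebra.IsPushout.comp_iff R C κ (κ ⊗[R] C)).1 (Algebra.IsPushout.symm hpA)
      intro Q
      let L := Q.asIdeal.ResidueField
      letI : Algebra A L := ((algebraMap (κ ⊗[R] A) L).comp (algebraMap A (κ ⊗[R] A))).toAlgebra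
      haveI : IsScalarTower C A L := IsScalarTower.of_algebraMap_eq fun c => by
        rw [IsScalarTower.algebraMap_apply C (κ ⊗[R] A) L, IsScalarTower.algebraMap_apply C A (κ ⊗[R] A)]
        rfl
      have hbc : IsBaseChange (κ ⊗[R] C) ((IsScalarTower.toAlgHom C A (κ ⊗[R] A)).toLinearMap) :=
        (Algebra.IsPushout.symm hpush).out
      exact ((TensorProduct.AlgebraTensorModule.congr (LinearEquiv.refl L L) hbc.equiv.symm).trans
        (TensorProduct.AlgebraTensorModule.cancelBaseChange C (κ ⊗[R] C) L L A)).finrank_eq.trans (hrankA L)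
  -- flatness
  have hflat : Module.Flat C A := by
    refine Module.flat_of_localized_maximal _ fun q hq => ?_
    let L := Localization.AtPrime q
    let P : Ideal R := q.comap (algebraMap R C)
    haveI : P.IsPrime := hq.isPrime.comap _
    let N := LocalizedModule q.primeCompl A
    have : Module.Flat R N := by
      exact QFDLib.flat_of_isLocalizedModule_of_factor q.primeCompl (LocalizedModule.mkLinearMap q.primeCompl A)
        (P := A) LinearMap.id LinearMap.id 1 (fun a => (one_smul C a).symm)
    suffices Module.Flat L N from Module.Flat.trans C L N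
    have : IsNoetherianRing L := IsLocalization.isNoetherianRing q.primeCompl L inferInstance
    let J : Ideal L := P.map (algebraMap R L)
    have hJ : J ≠ ⊤ := by
      refine fun h => (IsLocalRing.maximalIdeal.isMaximal L).ne_top (top_unique (h ▸ Ideal.map_le_iff_le_comap.2 fun a ha => ?_))
      rw [Ideal.mem_comap, IsScalarTower.algebraMap_apply R C L]
      exact (IsLocalization.AtPrime.to_map_mem_maximal_iff L q _).2 ha
    refine flat_of_fibre P hJ ?_
    let φκ : P.ResidueField →+* L ⧸ J :=
      Ideal.ResidueField.lift P ((Ideal.Quotient.mk J).comp (algebraMap R L))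
        (fun a ha => RingHom.mem_ker.2 (Ideal.Quotient.eq_zero_iff_mem.2 (Ideal.mem_map_of_mem _ ha)))
        (fun a ha => IsUnit.map (Ideal.Quotient.mk J) (by
          rw [IsScalarTower.algebraMap_apply R C L]
          exact IsLocalization.map_units L (⟨algebraMap R C a, ha⟩ : q.primeCompl)))
    let φR : P.ResidueField →ₐ[R] L ⧸ J :=
      { φκ with commutes' := fun a => Ideal.ResidueField.lift_algebraMap P _ _ _ a }
    let κ := P.ResidueField
    let fκ : κ ⊗[R] C →ₐ[R] κ ⊗[R] A := Algebra.TensorProduct.map (AlgHom.id R κ) (f : C →ₐ[R] A)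
    letI := fκ.toRingHom.toAlgebra
    have hfl : Module.FaithfullyFlat (κ ⊗[R] C) (κ ⊗[R] A) := hfib P
    let χ : κ ⊗[R] C →ₐ[R] L ⧸ J :=
      Algebra.TensorProduct.lift φR (IsScalarTower.toAlgHom R C (L ⧸ J)) fun _ _ => Commute.all _ _
    letI : Algebra (κ ⊗[R] C) (L ⧸ J) := χ.toRingHom.toAlgebra
    letI : Algebra C (κ ⊗[R] C) := Algebra.TensorProduct.rightAlgebra
    letI : Algebra A (κ ⊗[R] A) := Algebra.TensorProduct.rightAlgebra
    letI : Algebra C (κ ⊗[R] A) :=
      ((algebraMap (κ ⊗[R] C) (κ ⊗[R] A)).comp (algebraMap C (κ ⊗[R] C))).toAlgebra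
    haveI : IsScalarTower C (κ ⊗[R] C) (κ ⊗[R] A) := IsScalarTower.of_algebraMap_eq fun _ => rfl
    haveI : IsScalarTower C A (κ ⊗[R] A) := IsScalarTower.of_algebraMap_eq fun c => by
      show fκ ((1 : κ) ⊗ₜ[R] c) = (1 : κ) ⊗ₜ[R] f c
      rfl
    haveI : IsScalarTower C (κ ⊗[R] C) (L ⧸ J) := IsScalarTower.of_algebraMap_eq fun c => by
      show _ = χ ((1 : κ) ⊗ₜ[R] c)
      rw [Algebra.TensorProduct.lift_tmul, map_one, one_mul]
      rfl
    haveI : IsScalarTower κ (κ ⊗[R] C) (κ ⊗[R] A) := IsScalarTower.of_algebraMap_eq fun a => by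
      show a ⊗ₜ[R] (1 : A) = fκ (a ⊗ₜ[R] (1 : C))
      exact (congrArg (fun z => a ⊗ₜ[R] z) (map_one f)).symm
    haveI : Algebra.IsPushout R κ C (κ ⊗[R] C) := inferInstance
    haveI : Algebra.IsPushout R C κ (κ ⊗[R] C) := Algebra.IsPushout.symm inferInstance
    have hpush : Algebra.IsPushout C A (κ ⊗[R] C) (κ ⊗[R] A) :=
      (Algebra.IsPushout.comp_iff R C κ (κ ⊗[R] C)).1 (Algebra.IsPushout.symm (inferInstance : Algebra.IsPushout R κ A (κ ⊗[R] A)))
    have hbc : IsBaseChange (κ ⊗[R] C) ((IsScalarTower.toAlgHom C A (κ ⊗[R] A)).toLinearMap) :=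
      (Algebra.IsPushout.symm hpush).out
    refine Module.Flat.of_linearEquiv (M := (L ⧸ J) ⊗[κ ⊗[R] C] (κ ⊗[R] A)) ?_
    exact ((TensorProduct.AlgebraTensorModule.congr (LinearEquiv.refl (L ⧸ J) (L ⧸ J))
        (LocalizedModule.equivTensorProduct q.primeCompl A)).trans
      (TensorProduct.AlgebraTensorModule.cancelBaseChange C L (L ⧸ J) (L ⧸ J) A)).trans
      ((TensorProduct.AlgebraTensorModule.congr (LinearEquiv.refl (L ⧸ J) (L ⧸ J)) hbc.equiv.symm).trans
        (TensorProduct.AlgebraTensorModule.cancelBaseChange C (κ ⊗[R] C) (L ⧸ J) (L ⧸ J) A)).symm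
  -- surjectivity
  have hcomap : Function.Surjective (PrimeSpectrum.comap (algebraMap C A)) := by
    intro Q
    let P : Ideal R := Q.asIdeal.comap (algebraMap R C)
    haveI : P.IsPrime := Q.isPrime.comap _
    let κ := P.ResidueField
    let fκ : κ ⊗[R] C →ₐ[R] κ ⊗[R] A := Algebra.TensorProduct.map (AlgHom.id R κ) (f : C →ₐ[R] A)
    letI := fκ.toRingHom.toAlgebra
    have hfl : Module.FaithfullyFlat (κ ⊗[R] C) (κ ⊗[R] A) := hfib P
    let φκ : κ →+* Q.asIdeal.ResidueField :=
      Ideal.ResidueField.lift P (algebraMap R Q.asIdeal.ResidueField)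
        (fun a ha => by
          rw [RingHom.mem_ker, IsScalarTower.algebraMap_apply R C, Ideal.algebraMap_residueField_eq_zero]
          exact ha)
        (fun a ha => isUnit_iff_ne_zero.2 fun h => ha (by
          rw [IsScalarTower.algebraMap_apply R C, Ideal.algebraMap_residueField_eq_zero] at h
          exact h))
    let φR : κ →ₐ[R] Q.asIdeal.ResidueField :=
      { φκ with commutes' := fun a => Ideal.ResidueField.lift_algebraMap P _ _ _ a }
    let χ : κ ⊗[R] C →ₐ[R] Q.asIdeal.ResidueField :=
      Algebra.TensorProduct.lift φR (IsScalarTower.toAlgHom R C _) fun _ _ => Commute.all _ _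
    obtain ⟨Q₁, hQ₁⟩ := PrimeSpectrum.comap_surjective_of_faithfullyFlat (A := κ ⊗[R] C) (B := κ ⊗[R] A)
      ⟨RingHom.ker χ, RingHom.ker_isPrime _⟩
    refine ⟨PrimeSpectrum.comap (Algebra.TensorProduct.includeRight : A →ₐ[R] κ ⊗[R] A).toRingHom Q₁, ?_⟩
    refine PrimeSpectrum.ext (Ideal.ext fun c => ?_)
    have h := SetLike.ext_iff.1 (congrArg PrimeSpectrum.asIdeal hQ₁) ((1 : κ) ⊗ₜ[R] c)
    rw [PrimeSpectrum.comap_asIdeal, Ideal.mem_comap, RingHom.mem_ker, Algebra.TensorProduct.lift_tmul, map_one,
      one_mul, IsScalarTower.toAlgHom_apply, Ideal.algebraMap_residueField_eq_zero] at h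
    exact h
  refine ⟨Module.FaithfullyFlat.of_comap_surjective hcomap, fun Q => ?_⟩
  obtain ⟨Q', hQ'⟩ := hcomap Q
  let L := Q'.asIdeal.ResidueField
  let φ : Q.asIdeal.ResidueField →+* L := Ideal.ResidueField.lift Q.asIdeal (algebraMap C L)
    (fun a ha => by
      rw [RingHom.mem_ker, IsScalarTower.algebraMap_apply C A L, Ideal.algebraMap_residueField_eq_zero]
      exact (congrArg PrimeSpectrum.asIdeal hQ').symm.le ha)
    (fun a ha => isUnit_iff_ne_zero.2 fun h => ha (by
      rw [IsScalarTower.algebraMap_apply C A L, Ideal.algebraMap_residueField_eq_zero] at h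
      exact (congrArg PrimeSpectrum.asIdeal hQ').le h))
  letI := φ.toAlgebra
  haveI : IsScalarTower C Q.asIdeal.ResidueField L := IsScalarTower.of_algebraMap_eq fun c =>
    (Ideal.ResidueField.lift_algebraMap Q.asIdeal _ _ _ c).symm
  rw [Module.rankAtStalk_eq, ← Module.finrank_baseChange (R := L),
    (TensorProduct.AlgebraTensorModule.cancelBaseChange C Q.asIdeal.ResidueField L L A).finrank_eq]
  exact hrankA L

end Groth.Agent.BTLib.FibreFlat
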