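import Groth.Prelude.Def_BT
import Mathlib.CategoryTheory.Monoidal.Cartesian.Over

/-!
Kernels in ℓ-divisible groups given as systems of finite layers.
-/

universe u

open CategoryTheory CategoryTheory.Limits AlgebraicGeometry MonObj MonoidalCategory CartesianMonoidalCategory

namespace Groth.Agent.BTLib

variable {S : Scheme.{u}}

lemma one_def' {T Q : Over S} [GrpObj Q] : (1 : T ⟶ Q) = toUnit T ≫ η[Q] := Hom.one_def

lemma kernel_w {N G Q : Over S} [GrpObj Q] {i : N ⟶ G} {q : G ⟶ Q} (h : AlgGrp.IsKernel i q) :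
    i ≫ q = 1 := by rw [one_def']; exact h.w

lemma kernel_lift {N G Q : Over S} [GrpObj Q] {i : N ⟶ G} {q : G ⟶ Q} (h : AlgGrp.IsKernel i q)
    {T : Over S} (x : T ⟶ G) (hx : x ≫ q = 1) : ∃ y : T ⟶ N, y ≫ i = x :=
  ⟨IsPullback.lift h x (toUnit T) (by rw [hx, one_def']), IsPullback.lift_fst h _ _ _⟩

lemma kernel_mono {N G Q : Over S} [GrpObj Q] {i : N ⟶ G} {q : G ⟶ Q} (h : AlgGrp.IsKernel i q) :
    Mono i :=
  ⟨fun a b hab => IsPullback.hom_ext h hab (toUnit_unique _ _)⟩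

lemma isKernel_of {N G Q : Over S} [GrpObj Q] {i : N ⟶ G} {q : G ⟶ Q} (hw : i ≫ q = 1) [Mono i]
    (hl : ∀ {T : Over S} (x : T ⟶ G), x ≫ q = 1 → ∃ y : T ⟶ N, y ≫ i = x) : AlgGrp.IsKernel i q := by
  have hw' : i ≫ q = toUnit N ≫ η[Q] := by rw [← one_def']; exact hw
  have hx : ∀ s : PullbackCone q η[Q], s.fst ≫ q = 1 := fun s => by
    rw [one_def', s.condition, toUnit_unique s.snd (toUnit _)]
  choose l hlf using fun s => hl _ (hx s)
  exact IsPullback.of_isLimit (PullbackCone.IsLimit.mk hw' l hlf (fun s => toUnit_unique _ _)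
    fun s m hm _ => by rw [← cancel_mono i, hm, hlf])

variable {ℓ h : ℕ} (G : BTGrp.ProBT ℓ S h)

lemma mono_incl (ν : ℕ) : Mono (G.incl ν) := kernel_mono (G.isKernel ν)

lemma comp_pow' {T : Over S} (n : ℕ) (m : ℕ) (x : T ⟶ G.G m) :
    x ≫ (𝟙 (G.G m)) ^ n = x ^ n := by
  rw [MonObj.comp_pow, Category.comp_id]

/-- the bottom layer is trivial -/
lemma eq_one_of_zero {T : Over S} (y : T ⟶ G.G 0) : y = 1 := by
  have := mono_incl G 0
  rw [← cancel_mono (G.incl 0), MonObj.one_comp]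
  have h0 := kernel_w (G.isKernel 0)
  rw [pow_zero, pow_one, Category.comp_id] at h0
  rw [h0, MonObj.comp_one]

/-- `ℓ` kills the first layer -/
lemma pow_eq_one_of_one {T : Over S} (y : T ⟶ G.G 1) : y ^ ℓ = 1 := by
  rw [← comp_pow', ← G.proj_incl 0, ← Category.assoc, eq_one_of_zero G (y ≫ G.proj 0),
    MonObj.one_comp]

variable (i : (t : ℕ) → (G.G 1 ⟶ G.G (t + 1))) (hi0 : i 0 = 𝟙 (G.G 1))
  (hi : ∀ t : ℕ, i (t + 1) = i t ≫ G.incl (t + 1))

include hi0 hi in
lemma isMonHom_incl_iter (t : ℕ) : IsMonHom (i t) := by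
  induction t with
  | zero => rw [hi0]; infer_instance
  | succ t ih => rw [hi]; infer_instance

include hi0 hi in
lemma mono_incl_iter (t : ℕ) : Mono (i t) := by
  induction t with
  | zero => rw [hi0]; infer_instance
  | succ t ih => rw [hi]; have := mono_incl G (t + 1); infer_instance

include hi0 hi in
lemma isKernel_pow (t : ℕ) : AlgGrp.IsKernel (i t) ((𝟙 (G.G (t + 1))) ^ ℓ) := by
  have := mono_incl_iter G i hi0 hi t
  have := isMonHom_incl_iter G i hi0 hi t
  refine isKernel_of ?_ ?_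
  · calc i t ≫ (𝟙 (G.G (t + 1))) ^ ℓ = (i t) ^ ℓ := comp_pow' G _ _ _
      _ = (𝟙 (G.G 1) ≫ i t) ^ ℓ := by rw [Category.id_comp]
      _ = ((𝟙 (G.G 1)) ^ ℓ) ≫ i t := (MonObj.pow_comp _ _ _).symm
      _ = 1 := by rw [pow_eq_one_of_one, MonObj.one_comp]
  · intro T x hx
    rw [comp_pow'] at hx
    clear this
    induction t with
    | zero => exact ⟨x, by rw [hi0, Category.comp_id]⟩
    | succ t ih =>
      have := mono_incl_iter G i hi0 hi t
      obtain ⟨z, hz⟩ := kernel_lift (G.isKernel (t + 1)) x (by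
        rw [comp_pow', pow_succ', pow_mul, hx, one_pow])
      have := mono_incl G (t + 1)
      obtain ⟨y, hy⟩ := ih ‹Mono (i t)› z (by
        rw [← cancel_mono (G.incl (t + 1)), MonObj.pow_comp, hz, hx, MonObj.one_comp])
      exact ⟨y, by rw [hi, ← Category.assoc, hy, hz]⟩

end Groth.Agent.BTLib
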